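import Mathlib

/-!
# Sylow subgroups of symmetric groups of degree `-1` modulo `p` (helper251, S4829)
-/

set_option autoImplicit false

namespace Cfsg.Agent.H251.CYA

open Equiv Equiv.Perm

/-- fixed points of a `p`-group of permutations -/
theorem fix_mod {p : ℕ} [Fact p.Prime] {α : Type*} [Finite α] (P : Subgroup (Perm α)) (hP : IsPGroup p P) :
    Nat.card α ≡ {i : α | ∀ q ∈ P, q i = i}.ncard [MOD p] := by
  have h := hP.card_modEq_card_fixedPoints α
  have e : MulAction.fixedPoints ↥P α = {i : α | ∀ q ∈ P, q i = i} := by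
    ext i
    constructor
    · intro hi q hq
      exact hi ⟨q, hq⟩
    · intro hi q
      exact hi q q.2
  rw [e] at h
  exact h

/-- a `p`-subgroup of the symmetric group of degree `p` is commutative -/
theorem comm_of_card {p : ℕ} [hp : Fact p.Prime] {α : Type*} [Fintype α] [DecidableEq α] (hα : Fintype.card α = p)
    (P : Subgroup (Perm α)) (hP : IsPGroup p P) : ∀ a ∈ P, ∀ b ∈ P, a * b = b * a := by
  obtain ⟨k, hk⟩ := IsPGroup.iff_card.1 hP
  have h1 : Nat.card P ∣ Nat.card (Perm α) := Subgroup.card_subgroup_dvd_card P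
  have h2 : Nat.card (Perm α) = p.factorial := by
    rw [Nat.card_eq_fintype_card, Fintype.card_perm, hα]
  have hp1 := hp.out.one_lt
  have hk1 : k ≤ 1 := by
    by_contra hk2
    push Not at hk2
    have h3 : p ^ 2 ∣ p.factorial := by
      rw [← h2]
      exact ((pow_dvd_pow p hk2).trans (hk ▸ dvd_rfl)).trans h1
    obtain ⟨m, hm⟩ : ∃ m, p = m + 1 := ⟨p - 1, by omega⟩
    have h4 : p * p ∣ p * m.factorial := by
      rw [← pow_two]
      have : p.factorial = p * m.factorial := by
        conv_lhs => rw [hm]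
        rw [Nat.factorial_succ, ← hm]
      rwa [this] at h3
    have h5 := Nat.dvd_of_mul_dvd_mul_left hp.out.pos h4
    have h6 := (hp.out.dvd_factorial).1 h5
    omega
  have h3 : IsCyclic P := by
    have : k = 0 ∨ k = 1 := by omega
    rcases this with rfl | rfl
    · rw [pow_zero] at hk
      have : Subsingleton P := (Nat.card_eq_one_iff_unique.1 hk).1
      infer_instance
    · rw [pow_one] at hk
      exact isCyclic_of_prime_card hk
  intro a ha b hb
  have h4 : ∀ x y : P, x * y = y * x := by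
    intro x y
    obtain ⟨g, hg⟩ := h3.exists_generator
    obtain ⟨i, rfl⟩ := hg x
    obtain ⟨j, rfl⟩ := hg y
    show g ^ i * g ^ j = g ^ j * g ^ i
    rw [← zpow_add, ← zpow_add, add_comm]
  exact congrArg Subtype.val (h4 ⟨a, ha⟩ ⟨b, hb⟩)

/-- **invariant subsets of size `p`, `p - 1`** -/
theorem syl_inv {n p : ℕ} [hp : Fact p.Prime] (hp2 : p ≠ 2) (hn : n % p = p - 1) (Q : Subgroup (Equiv.Perm (Fin n)))
    (hQ : IsPGroup p Q)
    (hmax : ∀ c : Equiv.Perm (Fin n), (∃ m : ℕ, c ^ p ^ m = 1) → (∀ q ∈ Q, c * q = q * c) → c ∈ Q)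
    (x : Equiv.Perm (Fin n)) (hx : ∀ q ∈ Q, x * q = q * x) {Y : Finset (Fin n)} (hY : Y.card = p ∨ Y.card = p - 1)
    (hQY : ∀ q ∈ Q, ∀ i ∈ Y, q i ∈ Y) : ∀ i ∈ Y, x i ∈ Y := by
  classical
  have hp1 := hp.out.one_lt
  set F : Finset (Fin n) := Finset.univ.filter fun i => ∀ q ∈ Q, q i = i with hF
  have hmF : ∀ i, i ∈ F ↔ ∀ q ∈ Q, q i = i := fun i => by rw [hF, Finset.mem_filter]; simp
  have hcF : {i : Fin n | ∀ q ∈ Q, q i = i}.ncard = F.card := by
    rw [← Set.ncard_coe_finset]
    congr 1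
    ext i
    rw [Finset.mem_coe, hmF]
    rfl
  have hmod := fix_mod Q hQ
  rw [Nat.card_fin, hcF, Nat.ModEq, hn] at hmod
  -- the number of fixed points is less than `p`
  have hlt : F.card < p := by
    by_contra hge
    push Not at hge
    have hdvd : p ∣ Fintype.card (Perm F) := by
      rw [Fintype.card_perm, Fintype.card_coe]
      exact (hp.out.dvd_factorial).2 hge
    obtain ⟨σ, hσ⟩ := exists_prime_orderOf_dvd_card p hdvd
    have hσ1 : σ ≠ 1 := by
      rintro rfl
      rw [orderOf_one] at hσ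
      omega
    set c : Perm (Fin n) := Perm.ofSubtype σ with hc
    have hcp : c ^ p ^ 1 = 1 := by
      rw [pow_one, hc, ← map_pow, ← hσ, pow_orderOf_eq_one, map_one]
    have hcQ : c ∈ Q := by
      refine hmax c ⟨1, hcp⟩ fun q hq => ?_
      ext1 i
      rw [Perm.mul_apply, Perm.mul_apply]
      by_cases hi : i ∈ F
      · have h1 : q i = i := (hmF i).1 hi q hq
        have h2 : c i ∈ F := by
          rw [hc, Perm.ofSubtype_apply_of_mem σ hi]
          exact (σ ⟨i, hi⟩).2
        rw [h1, (hmF _).1 h2 q hq]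
      · have h1 : q i ∉ F := by
          intro h
          apply hi
          rw [hmF] at h ⊢
          have h2 := h q⁻¹ (Q.inv_mem hq)
          have h3 : q⁻¹ (q i) = i := q.symm_apply_apply i
          rw [h3] at h2
          rw [h2]
          exact h
        rw [hc, Perm.ofSubtype_apply_of_not_mem σ hi, Perm.ofSubtype_apply_of_not_mem σ h1]
    apply hσ1
    ext1 i
    have h1 := (hmF i).1 i.2 c hcQ
    rw [hc, Perm.ofSubtype_apply_coe] at h1
    exact Subtype.ext h1
  have hcard : F.card = p - 1 := by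
    rw [Nat.mod_eq_of_lt hlt] at hmod
    exact hmod.symm
  have hxF : ∀ i ∈ F, x i ∈ F := by
    intro i hi
    rw [hmF] at hi ⊢
    intro q hq
    have h1 := congrArg (fun g : Perm (Fin n) => g i) (hx q hq)
    rw [Perm.mul_apply, Perm.mul_apply, hi q hq] at h1
    exact h1.symm
  -- the action on `Y`
  have hiff : ∀ q : Q, ∀ i, (q : Perm (Fin n)) i ∈ Y ↔ i ∈ Y := by
    intro q i
    refine ⟨fun h => ?_, hQY q q.2 i⟩
    have h1 := hQY _ (Q.inv_mem q.2) _ h
    have h2 : ((q : Perm (Fin n))⁻¹) ((q : Perm (Fin n)) i) = i := (q : Perm (Fin n)).symm_apply_apply i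
    rwa [h2] at h1
  let f : Q →* Perm Y :=
    { toFun := fun q => (q : Perm (Fin n)).subtypePerm (hiff q)
      map_one' := by ext1 i; rfl
      map_mul' := fun a b => by ext1 i; rfl }
  have hf : ∀ q : Q, ∀ i : Y, ((f q i : Y) : Fin n) = (q : Perm (Fin n)) i := fun q i => rfl
  have hR : IsPGroup p f.range := by
    intro g
    obtain ⟨g, q, rfl⟩ := g
    obtain ⟨k, hk⟩ := hQ q
    exact ⟨k, Subtype.ext (by
      show (f q) ^ p ^ k = 1
      rw [← map_pow, hk, map_one])⟩
  have hmodY := fix_mod f.range hR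
  rw [Nat.card_eq_fintype_card, Fintype.card_coe] at hmodY
  set A : Set Y := {i : Y | ∀ q ∈ f.range, q i = i} with hA
  have hAF : ∀ i : Y, i ∈ A ↔ (i : Fin n) ∈ F := by
    intro i
    rw [hmF]
    constructor
    · intro h q hq
      exact congrArg Subtype.val (h (f ⟨q, hq⟩) ⟨_, rfl⟩)
    · rintro h _ ⟨q, rfl⟩
      exact Subtype.ext (h q q.2)
  have hAY : A.ncard ≤ Y.card := by
    have := Set.ncard_le_card A
    rwa [Nat.card_eq_fintype_card, Fintype.card_coe] at this
  have hAF' : A.ncard ≤ F.card := by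
    have h1 : (Subtype.val '' A).ncard = A.ncard := Set.ncard_image_of_injective _ Subtype.val_injective
    rw [← h1, ← Set.ncard_coe_finset]
    refine Set.ncard_le_ncard ?_ (Finset.finite_toSet F)
    rintro _ ⟨i, hi, rfl⟩
    exact (hAF i).1 hi
  rcases hY with hY | hY
  · -- `|Y| = p`
    rw [hY] at hmodY hAY
    have hA0 : A.ncard = 0 := by
      rw [Nat.ModEq, Nat.mod_self, Nat.mod_eq_of_lt (by omega)] at hmodY
      exact hmodY.symm
    have hAe : A = ∅ := by
      rwa [Set.ncard_eq_zero (Set.toFinite A)] at hA0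
    have hcomm := comm_of_card (by rw [Fintype.card_coe]; exact hY) f.range hR
    -- an element acting non-trivially
    obtain ⟨i0, hi0⟩ : ∃ i0, i0 ∈ Y := Finset.card_pos.1 (by omega)
    have hi1 : (⟨i0, hi0⟩ : Y) ∉ A := by rw [hAe]; exact Set.notMem_empty _
    have hi2 : ∃ σ ∈ f.range, σ ⟨i0, hi0⟩ ≠ ⟨i0, hi0⟩ := by
      by_contra h
      push Not at h
      exact hi1 h
    obtain ⟨σ, hσ, hσi⟩ := hi2
    obtain ⟨k, hk⟩ := hR ⟨σ, hσ⟩
    have hk' : σ ^ p ^ k = 1 := congrArg Subtype.val hk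
    -- it has no fixed points
    have hσf : ∀ i : Y, σ i ≠ i := by
      have hZ : IsPGroup p (Subgroup.zpowers σ) := by
        intro g
        obtain ⟨g, m, rfl⟩ := g
        refine ⟨k, Subtype.ext ?_⟩
        show (σ ^ m) ^ p ^ k = 1
        rw [← zpow_natCast, ← zpow_mul, mul_comm, zpow_mul, zpow_natCast, hk', one_zpow]
      have h1 := fix_mod (Subgroup.zpowers σ) hZ
      rw [Nat.card_eq_fintype_card, Fintype.card_coe, hY, Nat.ModEq, Nat.mod_self] at h1
      set B : Set Y := {i : Y | ∀ q ∈ Subgroup.zpowers σ, q i = i} with hB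
      have hBi : (⟨i0, hi0⟩ : Y) ∉ B := fun h => hσi (h σ (Subgroup.mem_zpowers σ))
      have hBlt : B.ncard < p := by
        have h2 : B.ncard < (Set.univ : Set Y).ncard :=
          Set.ncard_lt_ncard ⟨Set.subset_univ _, fun h => hBi (h (Set.mem_univ _))⟩
        rw [Set.ncard_univ, Nat.card_eq_fintype_card, Fintype.card_coe, hY] at h2
        exact h2
      rw [Nat.mod_eq_of_lt hBlt] at h1
      have hBe : B = ∅ := (Set.ncard_eq_zero (Set.toFinite B)).1 h1.symm
      intro i hi
      have : i ∈ B := by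
        rintro q ⟨m, rfl⟩
        exact Perm.zpow_apply_eq_self_of_apply_eq_self hi m
      rw [hBe] at this
      exact this
    set c : Perm (Fin n) := Perm.ofSubtype σ with hc
    have hcQ : c ∈ Q := by
      refine hmax c ⟨k, by rw [hc, ← map_pow, hk', map_one]⟩ fun q hq => ?_
      ext1 i
      rw [Perm.mul_apply, Perm.mul_apply]
      by_cases hi : i ∈ Y
      · have h1 := congrArg (fun g : Perm Y => ((g ⟨i, hi⟩ : Y) : Fin n)) (hcomm σ hσ (f ⟨q, hq⟩) ⟨_, rfl⟩)
        simp only [Perm.mul_apply] at h1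
        rw [hf] at h1
        rw [hc, Perm.ofSubtype_apply_of_mem σ hi, Perm.ofSubtype_apply_of_mem σ (hQY q hq i hi)]
        exact h1
      · have h1 : q i ∉ Y := fun h => hi ((hiff ⟨q, hq⟩ i).1 h)
        rw [hc, Perm.ofSubtype_apply_of_not_mem σ hi, Perm.ofSubtype_apply_of_not_mem σ h1]
    intro i hi
    by_contra hxi
    have h1 := congrArg (fun g : Perm (Fin n) => g i) (hx c hcQ)
    rw [Perm.mul_apply, Perm.mul_apply] at h1
    rw [hc, Perm.ofSubtype_apply_of_not_mem σ hxi, Perm.ofSubtype_apply_of_mem σ hi] at h1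
    exact hσf ⟨i, hi⟩ (Subtype.ext (x.injective h1))
  · -- `|Y| = p - 1`
    rw [hY] at hmodY hAY
    have hA1 : A.ncard = p - 1 := by
      rw [Nat.ModEq, Nat.mod_eq_of_lt (by omega), Nat.mod_eq_of_lt (by omega)] at hmodY
      exact hmodY.symm
    have hAu : A = Set.univ := by
      apply Set.eq_of_subset_of_ncard_le (Set.subset_univ _)
      rw [Set.ncard_univ, Nat.card_eq_fintype_card, Fintype.card_coe, hY, hA1]
    have hYF : Y ⊆ F := by
      intro i hi
      have : (⟨i, hi⟩ : Y) ∈ A := by rw [hAu]; exact Set.mem_univ _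
      exact (hAF _).1 this
    have hYF' : Y = F := Finset.eq_of_subset_of_card_le hYF (by rw [hcard, hY])
    rw [hYF']
    exact hxF

/-- **Sylow subgroups of the alternating group** -/
theorem syl_max {n p : ℕ} [hp : Fact p.Prime] (hp2 : p ≠ 2) (Q : Sylow p (alternatingGroup (Fin n))) :
    IsPGroup p (Q.1.map (alternatingGroup (Fin n)).subtype) ∧
    ∀ c : Equiv.Perm (Fin n), (∃ m : ℕ, c ^ p ^ m = 1) →
      (∀ q ∈ Q.1.map (alternatingGroup (Fin n)).subtype, c * q = q * c) →
      c ∈ Q.1.map (alternatingGroup (Fin n)).subtype := by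
  refine ⟨Q.2.map _, ?_⟩
  rintro c ⟨m, hm⟩ hcom
  -- `c` is even
  have hc : c ∈ alternatingGroup (Fin n) := by
    rw [Perm.mem_alternatingGroup]
    have h1 : Perm.sign c ^ p ^ m = 1 := by rw [← map_pow, hm, map_one]
    have hodd : Odd (p ^ m) := (hp.out.odd_of_ne_two hp2).pow
    rcases Int.units_eq_one_or (Perm.sign c) with h | h
    · exact h
    · rw [h, hodd.neg_one_pow] at h1
      exact absurd h1 (by decide)
  set d : alternatingGroup (Fin n) := ⟨c, hc⟩ with hd
  have hdm : d ^ p ^ m = 1 := Subtype.ext hm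
  have hdc : ∀ q ∈ Q.1, d * q = q * d := fun q hq => Subtype.ext (hcom q ⟨q, hq, rfl⟩)
  have hZ : IsPGroup p (Subgroup.zpowers d) := by
    intro g
    obtain ⟨g, j, rfl⟩ := g
    refine ⟨m, Subtype.ext ?_⟩
    show (d ^ j) ^ p ^ m = 1
    rw [← zpow_natCast, ← zpow_mul, mul_comm, zpow_mul, zpow_natCast, hdm, one_zpow]
  have hnorm : Subgroup.zpowers d ≤ Subgroup.normalizer (Q.1 : Set (alternatingGroup (Fin n))) := by
    rw [Subgroup.zpowers_le]
    rw [Subgroup.mem_normalizer_iff]
    intro h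
    constructor
    · intro hh
      have : d * h * d⁻¹ = h := by rw [hdc h hh, mul_inv_cancel_right]
      show d * h * d⁻¹ ∈ Q.1
      rw [this]
      exact hh
    · intro hh
      have h1 : d * (d * h * d⁻¹) = (d * h * d⁻¹) * d := hdc _ hh
      have h2 : d * h * d⁻¹ = h := by
        have h3 : d * (d * h * d⁻¹) = d * h := by rw [h1]; group
        exact mul_left_cancel h3
      rw [← h2]
      exact hh
  have hsup : IsPGroup p (Q.1 ⊔ Subgroup.zpowers d : Subgroup _) := Q.2.to_sup_of_normal_left' hZ hnorm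
  have h1 : Q.1 ⊔ Subgroup.zpowers d = Q.1 := Q.3 hsup le_sup_left
  refine ⟨d, ?_, rfl⟩
  show d ∈ Q.1
  rw [← h1]
  exact (le_sup_right : Subgroup.zpowers d ≤ Q.1 ⊔ Subgroup.zpowers d) (Subgroup.mem_zpowers d)

end Cfsg.Agent.H251.CYA
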